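import Cfsg.Agent.H942.CB.E8Tor
import Cfsg.Agent.H942.E8Tab
import Cfsg.Agent.H971.RV.Lie

/-!
# S5915 (`L₂(64)` in `E₈(2)`): interface, torus elements and brackets
-/

set_option autoImplicit false
set_option maxRecDepth 100000

namespace Cfsg.Agent.H939.L64

open Cfsg Cfsg.Lie Cfsg.Lie.ChevalleyDatum
open Cfsg.Agent.ChevalleyStructure Cfsg.Agent.ChevalleyStructure.Elts Cfsg.Agent.ChevalleyStructure.CoxeterGeomTypes
open Cfsg.Agent.Tits.Roots Cfsg.Agent.Nodes.BNOf Cfsg.Agent.Nodes.RGDChev Cfsg.Agent.KFacts.RgdChevCoord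
open Cfsg.Agent.BpExc.TorChev Cfsg.Agent.H129.TorusChar
open Cfsg.Agent.GpExc.Field (emb)
open Cfsg.Agent.H942.E8Tab Cfsg.Agent.H944.RootVals

/-- the algebraic closure of the field with two elements -/
abbrev KK : Type := AlgebraicClosure (ZMod 2)

/-- `E₈(2)` -/
abbrev E2 : Type := ↥(chevE8.group (ZMod 2))

/-- the Lie algebra over `KK` -/
abbrev LK : Type := chevE8.Idx → KK

/-- the Lie algebra over the field with two elements -/
abbrev L2 : Type := chevE8.Idx → ZMod 2

/-- the inclusion `L2 → LK` -/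
noncomputable def up (v : L2) : LK := fun i => algebraMap (ZMod 2) KK (v i)

/-- `E₈(2) → E₈(KK)` -/
noncomputable def em : E2 →* ↥(chevE8.group KK) := emb e8T.inList (algebraMap (ZMod 2) KK)

/-- the action on `L2` -/
def a2 (g : E2) (v : L2) : L2 := (((g : GL chevE8.Idx (ZMod 2)) : Matrix chevE8.Idx chevE8.Idx (ZMod 2))).mulVec v

/-- the action on `LK` -/
noncomputable def aK (g : ↥(chevE8.group KK)) (v : LK) : LK :=
  (((g : GL chevE8.Idx KK) : Matrix chevE8.Idx chevE8.Idx KK)).mulVec v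

/-- the Frobenius map on coordinates -/
noncomputable def fr (v : LK) : LK := fun i => v i ^ 2

/-- the bracket over `KK` -/
noncomputable abbrev brK (v w : LK) : LK := Cfsg.Agent.H971.RV.br chevE8 KK v w

/-- the bracket over the field with two elements -/
noncomputable abbrev br2 (v w : L2) : L2 := Cfsg.Agent.H971.RV.br chevE8 (ZMod 2) v w

/-- the representation of `E₈(2)` on `LK` -/
noncomputable def rE : Representation KK E2 LK where
  toFun g := Matrix.mulVecLin (((em g : ↥(chevE8.group KK)) : GL chevE8.Idx KK) : Matrix chevE8.Idx chevE8.Idx KK)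
  map_one' := by
    rw [map_one]
    exact Matrix.mulVecLin_one
  map_mul' a b := by
    rw [map_mul, Subgroup.coe_mul, Units.val_mul]
    exact Matrix.mulVecLin_mul _ _

theorem rE_apply (g : E2) (v : LK) : rE g v = aK (em g) v := rfl

/-- **torus data**: `x` is conjugate in `E₈(KK)` to the torus element with the values `ζ ^ (v i)` on the simple roots -/
def TorZ (x : E2) (N : ℕ) (v : Fin 8 → ZMod N) (ζ : KK) : Prop :=
  IsPrimitiveRoot ζ N ∧ ∃ z t : ↥(chevE8.group KK), z⁻¹ * em x * z = t ∧ t ∈ TT chevE8 KK ∧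
    ∀ i, cX e8T t (sr i) = ζ ^ (v i).val

/-- the multiplicity of the eigenvalue `ζ ^ a` -/
def cntE {N : ℕ} (v : Fin 8 → ZMod N) (a : ZMod N) : ℕ := (ms chevE8 8 v).count a + if a = 0 then 8 else 0

/-- the vectors of type (i) and (ii) (Bourbaki numbering) -/
def Y1 : Fin 8 → ZMod 65 := ![1, 0, 0, 1, 1, 2, 4, 8]

/-- type (ii) -/
def Y5 : Fin 8 → ZMod 65 := ![1, 5, 3, 1, 1, 2, 3, 3]

end Cfsg.Agent.H939.L64
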