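import Cfsg.Agent.H939.L64.DefR
import Cfsg.Agent.H939.L64.DefT
import Cfsg.Agent.H597.E8Form

/-!
# S5915: the module `LK` (form, bracket, Frobenius map)
-/

set_option autoImplicit false
set_option maxRecDepth 100000

namespace Cfsg.Agent.H939.L64

open Matrix Cfsg Cfsg.Lie Cfsg.Lie.ChevalleyDatum
open Cfsg.Agent.ChevalleyStructure Cfsg.Agent.Tits.Roots
open Cfsg.Agent.GpExc.Field (emb emb_injective coe_emb)
open Cfsg.Agent.H942.E8Tab
open Cfsg.Agent.H943.SL2Rel Cfsg.Agent.H943.RepAdd Cfsg.Agent.H943.SL2Mod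

theorem em_injective : Function.Injective em := emb_injective e8T.inList _

theorem em_entry (g : E2) (i j : chevE8.Idx) :
    (((em g : ↥(chevE8.group KK)) : GL chevE8.Idx KK) : Matrix chevE8.Idx chevE8.Idx KK) i j =
      algebraMap (ZMod 2) KK ((((g : GL chevE8.Idx (ZMod 2)) : Matrix chevE8.Idx chevE8.Idx (ZMod 2))) i j) := by
  unfold em
  rw [coe_emb]
  rfl

theorem rE_inj {g : E2} (h : ∀ v, rE g v = v) : g = 1 := by
  apply em_injective
  rw [map_one]
  apply Subtype.ext
  apply Units.ext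
  apply Matrix.toLin'.injective
  ext1 i
  apply LinearMap.ext
  intro c
  simp only [LinearMap.comp_apply, Matrix.toLin'_apply]
  have := h (LinearMap.single KK (fun _ : chevE8.Idx => KK) i c)
  rw [rE_apply, aK] at this
  rw [this, Subgroup.coe_one, Units.val_one, Matrix.one_mulVec]

/-- the invariant form -/
theorem exists_form : ∃ B : LK →ₗ[KK] LK →ₗ[KK] KK,
    (∀ (g : ↥(chevE8.group KK)) v w, B (aK g v) (aK g w) = B v w) ∧ (∀ v w, B v w = B w v) ∧
      ∀ v, (∀ w, B v w = 0) → v = 0 := by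
  obtain ⟨J, h1, h2, h3⟩ := Cfsg.Agent.H597.E8Form.form KK
  have e : ∀ v w : LK, Matrix.toLinearMap₂' KK J v w = v ⬝ᵥ (J *ᵥ w) := fun v w => Matrix.toLinearMap₂'_apply' J v w
  refine ⟨Matrix.toLinearMap₂' KK J, fun g v w => ?_, fun v w => ?_, fun v hv => ?_⟩
  · rw [e, e, aK, aK, Matrix.dotProduct_mulVec, ← Matrix.vecMul_transpose, Matrix.vecMul_vecMul,
      ← Matrix.dotProduct_mulVec, Matrix.mulVec_mulVec, h3 _ g.2]
  · rw [e, e, Matrix.dotProduct_mulVec, ← Matrix.mulVec_transpose, h1, dotProduct_comm]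
  · have h4 : v ᵥ* J = 0 := by
      funext i
      have := hv (Pi.single i 1)
      rw [e, Matrix.dotProduct_mulVec, dotProduct_single_one] at this
      exact this
    have h5 : (v ᵥ* J) ᵥ* J⁻¹ = v := by
      rw [Matrix.vecMul_vecMul, Matrix.mul_nonsing_inv _ h2, Matrix.vecMul_one]
    rw [← h5, h4, Matrix.zero_vecMul]

/-- the bracket as a bilinear map -/
noncomputable def brL : LK →ₗ[KK] LK →ₗ[KK] LK :=
  LinearMap.mk₂ KK brK (fun u v w => Cfsg.Agent.H971.RV.br_add_left u v w)
    (fun c v w => Cfsg.Agent.H971.RV.br_smul_left c v w) (fun u v w => Cfsg.Agent.H971.RV.br_add_right u v w)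
    (fun c v w => Cfsg.Agent.H971.RV.br_smul_right c v w)

theorem brL_apply (v w : LK) : brL v w = brK v w := rfl

theorem rE_brK (g : E2) (v w : LK) : rE g (brK v w) = brK (rE g v) (rE g w) := by
  rw [rE_apply, rE_apply, rE_apply]
  exact Cfsg.Agent.H971.RV.rho_br (by simp) (em g) v w

/-- the Frobenius map -/
noncomputable def frE : LK ≃+ LK where
  toFun v := fr v
  invFun v := fun i => (frobeniusEquiv KK 2).symm (v i)
  left_inv v := by
    funext i
    exact (frobeniusEquiv KK 2).symm_apply_apply (v i)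
  right_inv v := by
    funext i
    exact (frobeniusEquiv KK 2).apply_symm_apply (v i)
  map_add' v w := by
    funext i
    exact add_pow_char (v i) (w i) 2

theorem frE_apply (v : LK) (i : chevE8.Idx) : frE v i = v i ^ 2 := rfl

theorem frE_smul (c : KK) (v : LK) : frE (c • v) = c ^ 2 • frE v := by
  funext i
  rw [frE_apply, Pi.smul_apply, Pi.smul_apply, smul_eq_mul, smul_eq_mul, mul_pow, frE_apply]

theorem frE_rE (g : E2) (v : LK) : frE (rE g v) = rE g (frE v) := by
  funext i
  rw [frE_apply, rE_apply, rE_apply, aK, aK, Matrix.mulVec, Matrix.mulVec, dotProduct, dotProduct]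
  rw [← frobenius_def, map_sum]
  refine Finset.sum_congr rfl fun j _ => ?_
  rw [map_mul, em_entry, frobenius_def, frobenius_def, frE_apply, ← map_pow]
  congr 2
  exact ZMod.pow_card _

theorem rE_mul (g h : E2) (v : LK) : rE (g * h) v = rE g (rE h v) := by rw [map_mul]; rfl

theorem rE_one (v : LK) : rE 1 v = v := by rw [map_one]; rfl

theorem rE_inv_self (g : E2) (v : LK) : rE g⁻¹ (rE g v) = v := by rw [← rE_mul, inv_mul_cancel, rE_one]

theorem rE_self_inv (g : E2) (v : LK) : rE g (rE g⁻¹ v) = v := by rw [← rE_mul, mul_inv_cancel, rE_one]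

/-- an element as a linear automorphism -/
noncomputable def rEq (g : E2) : LK ≃ₗ[KK] LK :=
  LinearEquiv.ofLinear (rE g) (rE g⁻¹) (LinearMap.ext fun v => rE_self_inv g v) (LinearMap.ext fun v => rE_inv_self g v)

theorem rEq_apply (g : E2) (v : LK) : rEq g v = rE g v := rfl

theorem finrank_LK : Module.finrank KK LK = 248 := by
  rw [Module.finrank_fintype_fun_eq_card]
  rfl

end Cfsg.Agent.H939.L64
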