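import Cfsg.Agent.H939.L64.Grp
import Cfsg.Agent.H939.L64.DefT

/-!
# S5915: the embedding `ι`, the generator `lam`, the element `y0` of order 65
-/

set_option autoImplicit false

namespace Cfsg.Agent.H939.L64

open Matrix Cfsg Cfsg.Agent.H943.SL2Rel

variable {F : Type} [Field F] [Fintype F]

theorem exists_iota (hF : Fintype.card F = 64) : Nonempty (F →+* KK) := by
  classical
  have := charP_two hF
  let _ : Algebra (ZMod 2) F := ZMod.algebra F 2
  have : Algebra.IsAlgebraic (ZMod 2) F := Algebra.IsAlgebraic.of_finite (ZMod 2) F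
  exact ⟨(IsAlgClosed.lift (R := ZMod 2) (M := KK) (S := F)).toRingHom⟩

theorem mem_range (ι : F →+* KK) {c : KK} (hc : c ^ Fintype.card F = c) : ∃ a : F, ι a = c := by
  classical
  have hq : 1 < Fintype.card F := Fintype.one_lt_card
  open Polynomial in
  have h1 : (X ^ Fintype.card F - X : KK[X]) ≠ 0 := FiniteField.X_pow_card_sub_X_ne_zero KK hq
  open Polynomial in
  have h2 : (X ^ Fintype.card F - X : KK[X]).natDegree = Fintype.card F :=
    FiniteField.X_pow_card_sub_X_natDegree_eq KK hq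
  open Polynomial in
  have h3 : (Finset.univ.image ι) ⊆ (X ^ Fintype.card F - X : KK[X]).roots.toFinset := by
    intro x hx
    obtain ⟨a, -, rfl⟩ := Finset.mem_image.1 hx
    rw [Multiset.mem_toFinset, mem_roots h1, IsRoot.def, eval_sub, eval_pow, eval_X, ← map_pow, FiniteField.pow_card,
      sub_self]
  have h4 : (Finset.univ.image ι).card = Fintype.card F := by
    rw [Finset.card_image_of_injective _ ι.injective, Finset.card_univ]
  open Polynomial in
  have h5 : (X ^ Fintype.card F - X : KK[X]).roots.toFinset.card ≤ Fintype.card F := by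
    conv_rhs => rw [← h2]
    exact (Multiset.toFinset_card_le _).trans (card_roots' _)
  have h6 := Finset.eq_of_subset_of_card_le h3 (by rw [h4]; exact h5)
  have h7 : c ∈ Finset.univ.image ι := by
    rw [h6, Multiset.mem_toFinset, Polynomial.mem_roots h1, Polynomial.IsRoot.def, Polynomial.eval_sub,
      Polynomial.eval_pow, Polynomial.eval_X, hc, sub_self]
  obtain ⟨a, -, ha⟩ := Finset.mem_image.1 h7
  exact ⟨a, ha⟩

theorem exists_zeta (N : ℕ) (hN : N.Coprime 2) : ∃ ζ : KK, IsPrimitiveRoot ζ N := by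
  have : NeZero (N : KK) := ⟨by
    intro h0
    have h1 : 2 ∣ N := (CharP.cast_eq_zero_iff KK 2 N).1 h0
    have h2 := Nat.dvd_gcd h1 dvd_rfl
    rw [hN] at h2
    omega⟩
  exact HasEnoughRootsOfUnity.exists_primitiveRoot KK N

theorem two_KK : (2 : KK) = 0 := CharTwo.two_eq_zero

theorem add_KK (x : KK) : x + x = 0 := CharTwo.add_self_eq_zero x

/-- the element of order 65 -/
def yy (hF : Fintype.card F = 64) (c : F) : SpecialLinearGroup (Fin 2) F :=
  ⟨!![0, 1; 1, c], by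
    rw [Matrix.det_fin_two_of, zero_mul, zero_sub, one_mul]
    have h := two_eq_zero hF
    have h1 : (1 : F) + 1 = 0 := by rw [one_add_one_eq_two, h]
    exact neg_eq_of_add_eq_zero_left h1⟩

theorem yy_vec (hF : Fintype.card F = 64) (ι : F →+* KK) {c : F} {ζ : KK} (h0 : ζ ≠ 0) (hc : ι c = ζ + ζ⁻¹) :
    ((yy hF c : Matrix (Fin 2) (Fin 2) F).map ι) *ᵥ ![1, ζ] = ζ • ![1, ζ] := by
  ext i
  fin_cases i
  · simp [yy, Matrix.mulVec, dotProduct, Fin.sum_univ_two]
  · simp only [yy, Matrix.mulVec, dotProduct, Fin.sum_univ_two, Matrix.map_apply]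
    simp [hc]
    have h1 : (1 : KK) + (ζ + ζ⁻¹) * ζ = (1 + 1) + ζ * ζ := by
      rw [add_mul, inv_mul_cancel₀ h0]; ring
    rw [h1, add_KK, zero_add]

theorem pow_vec {M : Matrix (Fin 2) (Fin 2) KK} {v : Fin 2 → KK} {ζ : KK} (h : M *ᵥ v = ζ • v) (n : ℕ) :
    (M ^ n) *ᵥ v = ζ ^ n • v := by
  induction n with
  | zero => simp
  | succ n ih => rw [pow_succ, ← Matrix.mulVec_mulVec, h, Matrix.mulVec_smul, ih, smul_smul, pow_succ, mul_comm]

theorem orderOf_yy (hF : Fintype.card F = 64) (ι : F →+* KK) {c : F} {ζ : KK} (hζ : IsPrimitiveRoot ζ 65)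
    (hc : ι c = ζ + ζ⁻¹) : orderOf (yy hF c) = 65 := by
  have h0 : ζ ≠ 0 := hζ.ne_zero (by norm_num)
  have e1 := yy_vec hF ι h0 hc
  have e2 := yy_vec hF ι (inv_ne_zero h0) (show ι c = ζ⁻¹ + ζ⁻¹⁻¹ by rw [hc, inv_inv, add_comm])
  have hmap : ∀ n : ℕ, (((yy hF c ^ n : SpecialLinearGroup (Fin 2) F) : Matrix (Fin 2) (Fin 2) F).map ι) = ((yy hF c : Matrix (Fin 2) (Fin 2) F).map ι) ^ n := by
    intro n
    exact map_pow ι.mapMatrix (yy hF c : Matrix (Fin 2) (Fin 2) F) n
  have hne : ζ ≠ ζ⁻¹ := by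
    intro h
    have h1 : ζ ^ 2 = 1 := by
      rw [pow_two]
      nth_rw 2 [h]
      exact mul_inv_cancel₀ h0
    have := (hζ.pow_eq_one_iff_dvd 2).1 h1
    omega
  have h65 : yy hF c ^ 65 = 1 := by
    have a1 := pow_vec e1 65
    have a2 := pow_vec e2 65
    rw [hζ.pow_eq_one, one_smul] at a1
    rw [inv_pow, hζ.pow_eq_one, inv_one, one_smul] at a2
    have hN : ((yy hF c : Matrix (Fin 2) (Fin 2) F).map ι) ^ 65 = 1 := by
      ext i j
      have b1 := congrFun a1 i
      have b2 := congrFun a2 i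
      simp only [Matrix.mulVec, dotProduct, Fin.sum_univ_two, Matrix.cons_val_zero, Matrix.cons_val_one, mul_one] at b1 b2
      have h7 : (((yy hF c : Matrix (Fin 2) (Fin 2) F).map ι) ^ 65) i 1 * (ζ - ζ⁻¹) = (![1, ζ] : Fin 2 → KK) i - (![1, ζ⁻¹] : Fin 2 → KK) i := by
        rw [← b1, ← b2]; ring
      have hd : ζ - ζ⁻¹ ≠ 0 := sub_ne_zero.2 hne
      fin_cases i
      · have h8 : (((yy hF c : Matrix (Fin 2) (Fin 2) F).map ι) ^ 65) 0 1 = 0 := by
          have : (((yy hF c : Matrix (Fin 2) (Fin 2) F).map ι) ^ 65) 0 1 * (ζ - ζ⁻¹) = 0 := by rw [← sub_self (1 : KK)]; exact h7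
          exact (mul_eq_zero.1 this).resolve_right hd
        fin_cases j
        · have : (((yy hF c : Matrix (Fin 2) (Fin 2) F).map ι) ^ 65) 0 0 + (((yy hF c : Matrix (Fin 2) (Fin 2) F).map ι) ^ 65) 0 1 * ζ = 1 := b1
          rw [h8, zero_mul, add_zero] at this
          exact this
        · exact h8
      · have h8 : (((yy hF c : Matrix (Fin 2) (Fin 2) F).map ι) ^ 65) 1 1 = 1 := by
          have : (((yy hF c : Matrix (Fin 2) (Fin 2) F).map ι) ^ 65) 1 1 * (ζ - ζ⁻¹) = 1 * (ζ - ζ⁻¹) := by rw [one_mul]; exact h7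
          exact mul_right_cancel₀ hd this
        fin_cases j
        · have : (((yy hF c : Matrix (Fin 2) (Fin 2) F).map ι) ^ 65) 1 0 + (((yy hF c : Matrix (Fin 2) (Fin 2) F).map ι) ^ 65) 1 1 * ζ = ζ := b1
          rw [h8, one_mul] at this
          exact add_eq_right.1 this
        · exact h8
    rw [← hmap] at hN
    apply Subtype.ext
    apply Matrix.map_injective ι.injective
    refine hN.trans ?_
    exact (Matrix.map_one ι (map_zero ι) (map_one ι)).symm
  refine Nat.dvd_antisymm (orderOf_dvd_of_pow_eq_one h65) ?_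
  have h1 := pow_vec e1 (orderOf (yy hF c))
  rw [← hmap, pow_orderOf_eq_one] at h1
  have h2 := congrFun h1 0
  simp [Matrix.mulVec, dotProduct, Fin.sum_univ_two] at h2
  exact (hζ.pow_eq_one_iff_dvd _).1 h2.symm

/-- the data exist -/
theorem exists_dat (hF : Fintype.card F = 64) : ∃ (ι : F →+* KK) (lam : Fˣ) (y : SpecialLinearGroup (Fin 2) F) (ζ : KK),
    Dat ι lam y ζ ∧ orderOf y = 65 := by
  obtain ⟨ι⟩ := exists_iota hF
  obtain ⟨lam, hl⟩ := IsCyclic.exists_generator (α := Fˣ)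
  obtain ⟨ζ, hζ⟩ := exists_zeta 65 (by decide)
  have h0 : ζ ≠ 0 := hζ.ne_zero (by norm_num)
  have h64 : ζ ^ 64 = ζ⁻¹ := by
    apply eq_inv_of_mul_eq_one_left
    rw [← pow_succ]
    exact hζ.pow_eq_one
  obtain ⟨c, hc⟩ := mem_range ι (c := ζ + ζ⁻¹) (by
    have : (64 : ℕ) = 2 ^ 6 := by norm_num
    rw [hF, this, add_pow_char_pow, ← this, h64, inv_pow, h64, inv_inv, add_comm])
  refine ⟨ι, lam, yy hF c, ζ, ⟨hF, hl, hζ, ?_⟩, orderOf_yy hF ι hζ hc⟩
  show ι ((!![0, 1; 1, c] : Matrix (Fin 2) (Fin 2) F) 0 0 + (!![0, 1; 1, c] : Matrix (Fin 2) (Fin 2) F) 1 1) = _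
  simp [hc]

end Cfsg.Agent.H939.L64
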