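import Cfsg.Agent.H943.SL2Vb

/-!
# S5915 (`L₂(64)` in `E₈(2)`): interface, module theory of `SL₂(64)` in characteristic two

`k` algebraically closed of characteristic 2, `ι : F → k`, `|F| = 64`; `Vb ι b`, `b < 64`, the simple modules
(`b = ∑_{i ∈ I} 2 ^ i`, `V_b = ⊗_{i ∈ I} V_{2 ^ i}`).
-/

set_option autoImplicit false

namespace Cfsg.Agent.H939.L64

open Matrix Cfsg.Agent.H943.SL2Rel Cfsg.Agent.H943.RepAdd Cfsg.Agent.H943.SL2Mod

/-- `W` is invariant and isomorphic to `V_b` -/
def IsV {k F V : Type*} [Field k] [Field F] [Fintype F] [DecidableEq F] [AddCommGroup V] [Module k V] (ι : F →+* k)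
    (b : ℕ) (ρ : Representation k (SpecialLinearGroup (Fin 2) F) V) (W : Submodule k V) : Prop :=
  ∃ φ : (F × F → k) →ₗ[k] V, (∀ g, ∀ f ∈ Vb ι b, fRep k F g f ∈ Vb ι b ∧ φ (fRep k F g f) = ρ g (φ f)) ∧
    (Vb ι b).map φ = W ∧ ∀ f ∈ Vb ι b, φ f = 0 → f = 0

/-- the fixed vectors -/
def fixS {k G V : Type*} [Field k] [Group G] [AddCommGroup V] [Module k V] (ρ : Representation k G V) :
    Submodule k V where
  carrier := {v | ∀ g, ρ g v = v}
  add_mem' := fun ha hb g => by rw [map_add, ha g, hb g]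
  zero_mem' := fun g => map_zero _
  smul_mem' := fun c v hv g => by rw [map_smul, hv g]

/-- the data: a generator `lam` of the split torus, `y` of order 65 with the eigenvalues `ζ, ζ⁻¹` -/
structure Dat {k F : Type*} [Field k] [Field F] [Fintype F] (ι : F →+* k) (lam : Fˣ)
    (y : SpecialLinearGroup (Fin 2) F) (ζ : k) : Prop where
  card : Fintype.card F = 64
  gen : ∀ x, x ∈ Subgroup.zpowers lam
  prim : IsPrimitiveRoot ζ 65
  tr : ι (y.1 0 0 + y.1 1 1) = ζ + ζ⁻¹

/-- the multiplicities of the eigenvalues of `y` of order 65 -/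
noncomputable def e65 {k F V : Type*} [Field k] [Field F] [AddCommGroup V] [Module k V]
    (ρ : Representation k (SpecialLinearGroup (Fin 2) F) V) (y : SpecialLinearGroup (Fin 2) F) (ζ : k) (j : ℕ) : ℕ :=
  Module.finrank k (eig ρ y (ζ ^ j))

/-- the multiplicities of the eigenvalues of `h lam` -/
noncomputable def e63 {k F V : Type*} [Field k] [Field F] [AddCommGroup V] [Module k V] (ι : F →+* k)
    (ρ : Representation k (SpecialLinearGroup (Fin 2) F) V) (lam : Fˣ) (j : ℕ) : ℕ :=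
  Module.finrank k (eig ρ (h lam) (ι lam ^ j))

/-- the submasks of `b` -/
def subm (b : ℕ) : List ℕ := (List.range (b + 1)).filter fun m => (m &&& b) == m

/-- multiplicities of the eigenvalues of `y` on `V_b` : the weights are `2 m - b`, `m` a submask of `b` -/
def w65 (b j : ℕ) : ℕ := ((subm b).filter fun m => (2 * m + 64 * b) % 65 == j).length

/-- multiplicities of the eigenvalues of `h lam` on `V_b` -/
def w63 (b j : ℕ) : ℕ := ((subm b).filter fun m => (2 * m + 62 * b) % 63 == j).length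

/-- `m b` : the multiplicity of `V_b` as a composition factor (in the Grothendieck group) -/
def SpecM {k F V : Type*} [Field k] [Field F] [AddCommGroup V] [Module k V] (ι : F →+* k)
    (ρ : Representation k (SpecialLinearGroup (Fin 2) F) V) (lam : Fˣ) (y : SpecialLinearGroup (Fin 2) F) (ζ : k)
    (m : ℕ → ℕ) : Prop :=
  (∀ j < 65, e65 ρ y ζ j = ∑ b ∈ Finset.range 64, m b * w65 b j) ∧
    ∀ j < 63, e63 ι ρ lam j = ∑ b ∈ Finset.range 64, m b * w63 b j

/-- the smallest rotation of a mask (`b < 63`) -/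
def orb (b : ℕ) : ℕ := (List.range 6).foldl (fun x i => min x (2 ^ i * b % 63)) b

/-- the four patterns -/
def pat (p b : ℕ) : ℕ :=
  if b = 63 then [0, 0, 1, 2, 0].getD p 0 else
  match orb b with
  | 0 => [0, 12, 8, 12, 12].getD p 0
  | 1 => [0, 1, 2, 4, 6].getD p 0
  | 3 => [0, 0, 0, 1, 1].getD p 0
  | 5 => [0, 0, 3, 1, 3].getD p 0
  | 9 => [0, 4, 0, 1, 3].getD p 0
  | 7 => [0, 2, 0, 0, 0].getD p 0
  | 11 => [0, 0, 1, 0, 0].getD p 0
  | 21 => [0, 2, 2, 0, 2].getD p 0
  | 27 => [0, 1, 0, 0, 0].getD p 0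
  | _ => 0

end Cfsg.Agent.H939.L64
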