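import Cfsg.Agent.H939.L64.DefR
import Cfsg.Prelude.Def_Local
import Cfsg.Agent.Lib.GenFitting

/-!
# S5915: the homomorphism `SL₂(F) → H`, `|F| = 64`, and the automorphisms induced by `H`
-/

set_option autoImplicit false

namespace Cfsg.Agent.H939.L64

open Matrix Cfsg

variable {F : Type} [Field F] [Fintype F]

theorem two_eq_zero (hF : Fintype.card F = 64) : (2 : F) = 0 := by
  have h1 : ((64 : ℕ) : F) = 0 := by rw [← hF]; exact Nat.cast_card_eq_zero F
  have h2 : (2 : F) ^ 6 = 0 := by rw [← h1]; norm_num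
  exact pow_eq_zero_iff (by norm_num) |>.1 h2

theorem charP_two (hF : Fintype.card F = 64) : CharP F 2 := by
  have := two_eq_zero hF
  exact CharTwo.of_one_ne_zero_of_two_eq_zero one_ne_zero this

theorem center_bot (hF : Fintype.card F = 64) : Subgroup.center (SpecialLinearGroup (Fin 2) F) = ⊥ := by
  have h2 := two_eq_zero hF
  rw [Subgroup.eq_bot_iff_forall]
  intro A hA
  rw [Matrix.SpecialLinearGroup.mem_center_iff] at hA
  obtain ⟨r, hr, hs⟩ := hA
  rw [Fintype.card_fin] at hr
  have hr1 : r = 1 := by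
    have h3 : (r - 1) ^ 2 = 0 := by
      have : (r - 1) ^ 2 = r ^ 2 - 2 * r + 1 := by ring
      rw [this, hr, h2]
      ring_nf
      rw [h2]
    have h4 := pow_eq_zero_iff (two_ne_zero) |>.1 h3
    exact sub_eq_zero.1 h4
  apply Subtype.ext
  rw [← hs, hr1]
  simp

theorem exists_equiv (hF : Fintype.card F = 64) {X : Type} [Group X] (e : X ≃* ProjectiveSpecialLinearGroup (Fin 2) F) :
    Nonempty (SpecialLinearGroup (Fin 2) F ≃* X) := by
  have h1 : Function.Bijective (QuotientGroup.mk' (Subgroup.center (SpecialLinearGroup (Fin 2) F))) := by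
    constructor
    · rw [← MonoidHom.ker_eq_bot_iff, QuotientGroup.ker_mk', center_bot hF]
    · exact QuotientGroup.mk'_surjective _
  exact ⟨(MulEquiv.ofBijective (QuotientGroup.mk' (Subgroup.center (SpecialLinearGroup (Fin 2) F))) h1).trans e.symm⟩

/-- the homomorphism and the automorphisms -/
theorem exists_f (hF : Fintype.card F = 64) {G : Type} [Group G] (H : Subgroup G)
    (e : ↥(generalizedFittingSubgroup ↥H) ≃* ProjectiveSpecialLinearGroup (Fin 2) F) :
    ∃ f : SpecialLinearGroup (Fin 2) F →* ↥H, Function.Injective f ∧ f.range = generalizedFittingSubgroup ↥H ∧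
      ∀ h : ↥H, ∃ τ : SpecialLinearGroup (Fin 2) F ≃* SpecialLinearGroup (Fin 2) F, ∀ s, f (τ s) = h * f s * h⁻¹ := by
  obtain ⟨E⟩ := exists_equiv hF e
  have hn : (generalizedFittingSubgroup ↥H).Normal := Lib.GenFitting.genFitting_normal
  refine ⟨(generalizedFittingSubgroup ↥H).subtype.comp E.toMonoidHom,
    (Subgroup.subtype_injective _).comp E.injective, ?_, fun h => ?_⟩
  · rw [MonoidHom.range_comp, MonoidHom.range_eq_top.2 E.surjective, ← MonoidHom.range_eq_map, Subgroup.range_subtype]
  · refine ⟨(E.trans (MulAut.conjNormal h)).trans E.symm, fun s => ?_⟩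
    show ((E (E.symm (MulAut.conjNormal h (E s))) : ↥(generalizedFittingSubgroup ↥H)) : ↥H) = _
    rw [MulEquiv.apply_symm_apply, MulAut.conjNormal_apply]
    rfl

end Cfsg.Agent.H939.L64
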